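import Groth.Agent.Lib.PicLine26.Main
import Groth.Agent.Lib.BCCoh.PullSec
import Groth.Agent.Lib.Cube.Pic
import Mathlib.Algebra.CharP.Basic

/-!
# Invertible modules on the affine line over a ring with surjective Frobenius
-/

set_option autoImplicit false
set_option linter.all false
set_option backward.isDefEq.respectTransparency false
set_option maxHeartbeats 1000000
set_option synthInstance.maxHeartbeats 200000

universe u

open CategoryTheory CategoryTheory.Limits AlgebraicGeometry Opposite TopologicalSpace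
open GrothLib.InvExt (mres IsGen)
open GrothLib.BCCoh (pullRes)
open GrothLib.Ample (Cocycle)

noncomputable section

namespace GrothLib.GaPic6

/-- A reduced ring with surjective Frobenius is seminormal. -/
theorem isSeminormalRing_of_surjective_frobenius (p : ℕ) [Fact p.Prime] (A : Type u) [CommRing A] [CharP A p]
    [_root_.IsReduced A] (hF : Function.Surjective (frobenius A p)) : HTop.IsSeminormalRing A := by
  haveI : ExpChar A p := ExpChar.prime (Fact.out : p.Prime)
  intro x y h
  obtain ⟨i, j, hij⟩ : ∃ i j, 2 * i + 3 * j = p := by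
    have := (Fact.out : p.Prime).two_le
    rcases Nat.even_or_odd p with ⟨k, hk⟩ | ⟨k, hk⟩
    · exact ⟨k, 0, by omega⟩
    · exact ⟨k - 1, 1, by omega⟩
  obtain ⟨a, ha⟩ := hF (x ^ i * y ^ j)
  rw [frobenius_def] at ha
  have hinj : ∀ {b c : A}, b ^ p = c ^ p → b = c := fun {b c} hbc => by
    have h0 : (b - c) ^ p = 0 := by rw [sub_pow_expChar, hbc, sub_self]
    exact sub_eq_zero.1 (eq_zero_of_pow_eq_zero h0)
  refine ⟨a, ⟨hinj ?_, hinj ?_⟩, fun b hb => ?_⟩
  · rw [← pow_mul, mul_comm 2 p, pow_mul, ha, mul_pow, ← pow_mul y, mul_comm j 2, pow_mul y, ← h, ← pow_mul,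
      ← pow_mul, ← pow_add]
    congr 1
    omega
  · rw [← pow_mul, mul_comm 3 p, pow_mul, ha, mul_pow, ← pow_mul x, mul_comm i 3, pow_mul x, h, ← pow_mul,
      ← pow_mul, ← pow_add]
    congr 1
    omega
  · refine hinj ?_
    rw [ha, hb.1, hb.2, ← pow_mul, ← pow_mul, ← pow_add, hij]

/-- Seminormality only depends on the ring up to isomorphism. -/
theorem isSeminormalRing_congr {A B : Type u} [CommRing A] [CommRing B] (e : A ≃+* B)
    (hA : HTop.IsSeminormalRing A) : HTop.IsSeminormalRing B := by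
  intro x y h
  obtain ⟨a, ⟨h1, h2⟩, hu⟩ := hA (e.symm x) (e.symm y) (by rw [← map_pow, ← map_pow, h])
  refine ⟨e a, ⟨?_, ?_⟩, fun b hb => ?_⟩
  · rw [← map_pow, ← h1, e.apply_symm_apply]
  · rw [← map_pow, ← h2, e.apply_symm_apply]
  · rw [← hu (e.symm b) ⟨by rw [← map_pow, ← hb.1], by rw [← map_pow, ← hb.2]⟩, e.apply_symm_apply]

/-- An invertible module trivial on a surjective closed subscheme of an affine scheme is trivial. -/
theorem nonempty_iso_of_pullback {Z X : Scheme.{u}} (i : Z ⟶ X) [IsClosedImmersion i] [Surjective i] [IsAffine X]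
    {L : X.Modules} (hL : PicF.IsInvertible L)
    (h : Nonempty ((Scheme.Modules.pullback i).obj L ≅ Coh.structureModule Z)) :
    Nonempty (L ≅ Coh.structureModule X) := by
  obtain ⟨φ⟩ := h
  obtain ⟨hZ, hsurj⟩ := IsClosedImmersion.isAffine_surjective_of_isAffine i
  haveI := hZ
  haveI : L.IsQuasicoherent := InvExt.isQuasicoherent_of_isInvertible hL
  let N := (Scheme.Modules.pullback i).obj L
  let σ : Γ(N, ⊤) := φ.inv.app ⊤ (1 : Γ(Z, ⊤))
  have hσ : IsGen N ⊤ σ := InvExt.IsGen.map φ.inv (InvExt.isGen_one ⊤) fun W _ =>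
    ConcreteCategory.bijective_of_isIso (φ.inv.app W)
  have e0 : (⊤ : Z.Opens) ≤ i ⁻¹ᵁ ⊤ := le_top
  letI : Algebra Γ(X, ⊤) Γ(Z, ⊤) := (i.appLE ⊤ ⊤ e0).hom.toAlgebra
  letI : Module Γ(X, ⊤) Γ(N, ⊤) := Module.compHom _ (i.appLE ⊤ ⊤ e0).hom
  haveI : IsScalarTower Γ(X, ⊤) Γ(Z, ⊤) Γ(N, ⊤) := IsScalarTower.of_algebraMap_smul fun _ _ => rfl
  obtain ⟨q, hq, hqv⟩ := BCCoh.isBaseChange_pullRes i L (isAffineOpen_top X) (isAffineOpen_top Z) e0
  obtain ⟨e, he⟩ : ∃ e, pullRes i L ⊤ ⊤ e0 e = σ := by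
    suffices ∀ t : Γ(N, ⊤), ∃ e, pullRes i L ⊤ ⊤ e0 e = t from this σ
    intro t
    induction t using hq.inductionOn with
    | zero => exact ⟨0, (hqv 0).symm.trans (map_zero q)⟩
    | tmul m => exact ⟨m, (hqv m).symm⟩
    | smul a t ih =>
      obtain ⟨m, rfl⟩ := ih
      obtain ⟨b, hb⟩ := hsurj a
      have hb' : i.appLE ⊤ ⊤ e0 b = a := (PicAff28.appLE_top_apply i e0 b).trans hb
      exact ⟨b • m, (BCCoh.pullRes_smul i L _ _ e0 b m).trans (by rw [hb'])⟩
    | add t t' ih ih' =>
      obtain ⟨m, rfl⟩ := ih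
      obtain ⟨m', rfl⟩ := ih'
      refine ⟨m + m', ?_⟩
      rw [← hqv, ← hqv m, ← hqv m']
      exact map_add q m m'
  have hgen : IsGen L ⊤ e := by
    choose U g hxU hg using InvExt.exists_gen_nhd hL
    refine InvExt.isGen_of_cover U (fun _ => le_top) (fun x _ => Opens.mem_iSup.2 ⟨x, hxU x⟩) fun x => ?_
    obtain ⟨a, ha⟩ := (hg x).exists_smul_eq le_rfl (mres L (le_top : U x ≤ ⊤) e)
    rw [InvExt.mres_self] at ha
    rw [ha]
    refine (hg x).smul_unit ?_
    have h1 := PicAff28.isGen_pullRes i hL (hg x) (i ⁻¹ᵁ U x) le_rfl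
    have h2 : pullRes i L (U x) (i ⁻¹ᵁ U x) le_rfl (mres L (le_top : U x ≤ ⊤) e) =
        mres N (le_top : i ⁻¹ᵁ U x ≤ ⊤) σ :=
      (BCCoh.pullRes_res i L (le_top : U x ≤ ⊤) e0 le_rfl (le_top : i ⁻¹ᵁ U x ≤ ⊤) e).symm.trans (by rw [he])
    rw [ha, BCCoh.pullRes_smul] at h2
    have hu := PicAff28.isUnit_of_isGen_smul h1 (h2 ▸ hσ.restrict le_top)
    refine X.toRingedSpace.isUnit_of_isUnit_germ _ a fun y hy => ?_
    refine (X.toRingedSpace.mem_basicOpen a y hy).1 ?_
    obtain ⟨z, rfl⟩ := i.surjective y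
    have hz : z ∈ Z.basicOpen (i.appLE (U x) (i ⁻¹ᵁ U x) le_rfl a) := by
      rw [Scheme.basicOpen_of_isUnit _ hu]; exact hy
    rw [Scheme.basicOpen_appLE] at hz
    exact hz.2
  let θ := FinCov.homOfSection (X := X) e
  haveI : IsIso θ := PicAff28.isIso_of_app_bijective θ fun T => by
    have h : ⇑(θ.app T) = fun c : Γ(X, T) => c • mres L (le_top : T ≤ ⊤) e :=
      funext fun (c : Γ(X, T)) => by
      refine (PicAff28.smul_one_app θ T c).trans (congrArg (fun w => c • mres L le_top w) ?_)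
      refine (FinCov.homOfSection_one e ⊤).trans ?_
      exact InvExt.mres_self L e
    rw [h]
    exact hgen T le_top
  exact ⟨(asIso θ).symm⟩

open GrothLib.Cube in
/-- A cocycle on the affine line over a ring with surjective Frobenius is trivial when it is along the origin. -/
theorem triv_of_zsec (p : ℕ) [Fact p.Prime] (R : CommRingCat.{u}) [CharP R p]
    (hF : Function.Surjective (frobenius R p)) (c : Cocycle (AffineSpace PUnit.{u + 1} (Spec R)))
    (h : Triv (c.comap (PicAff28.zsec PUnit.{u + 1} (Spec R)))) : Triv c := by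
  let A : CommRingCat.{u} := CommRingCat.of (R ⧸ nilradical R)
  haveI : Nontrivial R := CharP.nontrivial_of_char_ne_one (Fact.out : p.Prime).ne_one
  haveI : Nontrivial A := Ideal.Quotient.nontrivial_iff.2 fun h => one_ne_zero
    (IsNilpotent.eq_zero (R := ZMod p) (x := 1) (by
      obtain ⟨n, hn⟩ := (mem_nilradical.1 (h ▸ Submodule.mem_top : (1 : R) ∈ nilradical R))
      exact absurd hn (by simp)))
  haveI : CharP A p := (CharP.charP_iff_prime_eq_zero (Fact.out : p.Prime)).2 (by
    rw [← map_natCast (Ideal.Quotient.mk (nilradical R)) p, CharP.cast_eq_zero, map_zero])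
  haveI : _root_.IsReduced A := (Ideal.isRadical_iff_quotient_reduced (nilradical R)).1 (Ideal.radical_isRadical _)
  have hFA : Function.Surjective (frobenius A p) := fun a => by
    obtain ⟨r, rfl⟩ := Ideal.Quotient.mk_surjective a
    obtain ⟨s, hs⟩ := hF r
    exact ⟨Ideal.Quotient.mk _ s, by rw [← hs, frobenius_def, frobenius_def]; exact (map_pow _ _ _).symm⟩
  let π : Spec A ⟶ Spec R := Spec.map (CommRingCat.ofHom (Ideal.Quotient.mk (nilradical R)))
  haveI : IsClosedImmersion π := IsClosedImmersion.spec_of_surjective _ Ideal.Quotient.mk_surjective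
  haveI : Surjective π := ⟨fun q => ⟨⟨q.asIdeal.map (Ideal.Quotient.mk (nilradical R)),
      Ideal.map_isPrime_of_surjective Ideal.Quotient.mk_surjective (by
        rw [Ideal.mk_ker]; exact nilradical_le_prime q.asIdeal)⟩, PrimeSpectrum.ext (by
      refine (Ideal.comap_map_of_surjective _ Ideal.Quotient.mk_surjective _).trans ?_
      rw [← RingHom.ker_eq_comap_bot, Ideal.mk_ker, sup_eq_left]
      exact nilradical_le_prime q.asIdeal)⟩⟩
  let m : AffineSpace PUnit.{u + 1} (Spec A) ⟶ AffineSpace PUnit.{u + 1} (Spec R) := AffineSpace.map PUnit.{u + 1} π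
  have sq := AffineSpace.isPullback_map (n := PUnit.{u + 1}) π
  haveI : IsClosedImmersion m := MorphismProperty.of_isPullback sq.flip ‹IsClosedImmersion π›
  haveI : Surjective m := MorphismProperty.of_isPullback (P := @Surjective) sq.flip ‹Surjective π›
  have hz : PicAff28.zsec PUnit.{u + 1} (Spec A) ≫ m = π ≫ PicAff28.zsec PUnit.{u + 1} (Spec R) := by
    refine AffineSpace.hom_ext ?_ fun i => ?_
    · rw [Category.assoc, Category.assoc, AffineSpace.map_over, ← Category.assoc, PicAff28.zsec_over,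
        PicAff28.zsec_over, Category.id_comp, Category.comp_id]
    · rw [Scheme.Hom.comp_appTop, Scheme.Hom.comp_appTop, CommRingCat.comp_apply, CommRingCat.comp_apply]
      simp [m, PicAff28.zsec, AffineSpace.homOfVector_appTop_coord]
  have hinv := c.isInvertible_twist 1
  have hinv' := Ample.isInvertible_pullback m hinv
  have hX : HTop.IsSeminormal (Spec A) := fun x => ⟨⟨⊤, isAffineOpen_top _⟩, trivial,
    isSeminormalRing_congr (Scheme.ΓSpecIso A).commRingCatIsoToRingEquiv.symm
      (isSeminormalRing_of_surjective_frobenius p A hFA)⟩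
  have h2 : Nonempty ((Scheme.Modules.pullback m).obj (c.twist 1) ≅ Coh.structureModule _) := by
    refine PicLine26.nonempty_iso_of_zsec (fun x L hL => PicLine26.nonempty_iso_affineLine_local
      (PicLine26.isSeminormalRing_stalk hX x) hL) _ hinv' ?_
    rw [← clsMod_eq_one_iff (Ample.isInvertible_pullback _ hinv')]
    rw [clsMod_pullback _ hinv', clsMod_pullback _ hinv, clsMod_eq hinv (Iso.refl _), pull_comp, hz, ← pull_comp,
      pull_cls, cls_eq_one_iff.2 h, map_one]
  exact (triv_iff c).2 (nonempty_iso_of_pullback m hinv h2)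

end GrothLib.GaPic6
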